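import Groth.Prelude.Def_Pi1
import Mathlib.Algebra.Module.CharacterModule
import Mathlib.LinearAlgebra.TensorProduct.Tower
import Mathlib.LinearAlgebra.TensorProduct.RightExactness

/-!
Descent for modules along universally injective ring maps, in terms of coactions
`θ : N → S ⊗[R] N` (Joyal–Tierney / Mesablishvili, by splitting character modules).
-/

set_option linter.style.haveILetI false
set_option linter.unusedSectionVars false

universe u

open TensorProduct

namespace Groth.Agent.Lib.DescAlg.RingDescent

variable {R S : Type u} [CommRing R] [CommRing S] [Algebra R S]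

theorem exists_section (hS : Pi1.UnivInjective R S) :
    ∃ s : CharacterModule R →ₗ[R] CharacterModule S,
      ∀ φ r, s φ (algebraMap R S r) = φ r := by
  let ev : CharacterModule (CharacterModule R ⊗[R] R) :=
    CharacterModule.uncurry (R := R) (LinearMap.id : CharacterModule R →ₗ[R] CharacterModule R)
  obtain ⟨χ, hχ⟩ := CharacterModule.dual_surjective_of_injective _ (hS (CharacterModule R)) ev
  refine ⟨CharacterModule.curry χ, fun φ r => ?_⟩
  exact DFunLike.congr_fun hχ (φ ⊗ₜ r)

variable (s : CharacterModule R →ₗ[R] CharacterModule S)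

/-- The natural map on character modules defined by a splitting. -/
noncomputable def sig (X : Type u) [AddCommGroup X] [Module R X] :
    CharacterModule X →ₗ[R] CharacterModule (S ⊗[R] X) :=
  (CharacterModule.dual (TensorProduct.comm R S X).toLinearMap).comp
    (CharacterModule.uncurry.comp ((LinearMap.compRight R s).comp
      (CharacterModule.curry.comp (CharacterModule.dual (TensorProduct.rid R X).toLinearMap))))

theorem sig_tmul {X : Type u} [AddCommGroup X] [Module R X] (φ : CharacterModule X) (a : S) (x : X) :
    sig s X φ (a ⊗ₜ x) =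
      s (CharacterModule.curry (CharacterModule.dual (TensorProduct.rid R X).toLinearMap φ) x) a :=
  rfl

theorem sig_one {X : Type u} [AddCommGroup X] [Module R X]
    (hs : ∀ φ r, s φ (algebraMap R S r) = φ r) (φ : CharacterModule X) (x : X) :
    sig s X φ ((1 : S) ⊗ₜ x) = φ x := by
  rw [sig_tmul, ← map_one (algebraMap R S), hs]
  exact congrArg φ (TensorProduct.rid_tmul x 1 |>.trans (one_smul R x))

theorem sig_natural {X Y : Type u} [AddCommGroup X] [Module R X] [AddCommGroup Y] [Module R Y]
    (g : X →ₗ[R] Y) (φ : CharacterModule Y) (z : S ⊗[R] X) :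
    sig s Y φ (g.lTensor S z) = sig s X (CharacterModule.dual g φ) z := by
  induction z using TensorProduct.induction_on with
  | zero => simp
  | tmul a x =>
    rw [LinearMap.lTensor_tmul, sig_tmul, sig_tmul]
    congr 2
    refine CharacterModule.ext _ fun r => congrArg φ ?_
    simp
  | add a b ha hb => simp only [map_add, ha, hb]

variable {N : Type u} [AddCommGroup N] [Module R N] [Module S N] [IsScalarTower R S N]

/-- A coaction: `S`-linear, coassociative, counital. -/
structure IsCoaction (θ : N →ₗ[R] S ⊗[R] N) : Prop where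
  smul : ∀ (a : S) (n : N), θ (a • n) = a • θ n
  coassoc : ∀ n, θ.lTensor S (θ n) = (TensorProduct.mk R S N 1).lTensor S (θ n)
  counit : ∀ n, (TensorProduct.lift ((LinearMap.lsmul S N).restrictScalars₁₂ R R)) (θ n) = n

/-- The descended module. -/
def fixed (θ : N →ₗ[R] S ⊗[R] N) : Submodule R N := LinearMap.eqLocus θ (TensorProduct.mk R S N 1)

variable (θ : N →ₗ[R] S ⊗[R] N)

theorem exists_char_section (hs : ∀ φ r, s φ (algebraMap R S r) = φ r) (hθ : IsCoaction θ) :
    ∃ t : CharacterModule (fixed θ) →ₗ[R] CharacterModule N,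
      (∀ ψ (k : fixed θ), t ψ k = ψ k) ∧
      ∀ φ : CharacterModule N,
        t (CharacterModule.dual (fixed θ).subtype φ) = CharacterModule.dual θ (sig s N φ) := by
  let T : CharacterModule N →ₗ[R] CharacterModule N := (CharacterModule.dual θ).comp (sig s N)
  let e : CharacterModule N →ₗ[R] CharacterModule (fixed θ) := CharacterModule.dual (fixed θ).subtype
  have hker : LinearMap.ker e ≤ LinearMap.ker T := by
    intro φ hφ
    let d : N →ₗ[R] S ⊗[R] N := θ - TensorProduct.mk R S N 1
    have hd : ∀ n, d n = 0 → φ n = 0 := fun n hn =>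
      DFunLike.congr_fun (LinearMap.mem_ker.1 hφ) ⟨n, sub_eq_zero.1 hn⟩
    let φ' : CharacterModule (N ⧸ LinearMap.ker d) :=
      QuotientAddGroup.lift (LinearMap.ker d).toAddSubgroup φ fun n hn =>
        hd n (LinearMap.mem_ker.1 hn)
    obtain ⟨χ, hχ⟩ := CharacterModule.dual_surjective_of_injective
      ((LinearMap.ker d).liftQ d le_rfl)
      (LinearMap.ker_eq_bot.1 (Submodule.ker_liftQ_eq_bot _ _ _ le_rfl)) φ'
    have hφχ : φ = CharacterModule.dual θ χ - CharacterModule.dual (TensorProduct.mk R S N 1) χ := by
      ext n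
      have := DFunLike.congr_fun hχ (Submodule.Quotient.mk n)
      change χ (θ n - (1 : S) ⊗ₜ n) = φ n at this
      rw [← this, map_sub]
      rfl
    rw [LinearMap.mem_ker]
    ext n
    change sig s N φ (θ n) = 0
    rw [hφχ, map_sub]
    change sig s N (CharacterModule.dual θ χ) (θ n) -
      sig s N (CharacterModule.dual (TensorProduct.mk R S N 1) χ) (θ n) = 0
    rw [← sig_natural, ← sig_natural, hθ.coassoc, sub_self]
  have hsurj : Function.Surjective e :=
    CharacterModule.dual_surjective_of_injective _ (fixed θ).injective_subtype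
  let q := e.quotKerEquivOfSurjective hsurj
  refine ⟨((LinearMap.ker e).liftQ T hker).comp q.symm.toLinearMap, fun ψ k => ?_, fun φ => ?_⟩
  · obtain ⟨φ, rfl⟩ := hsurj ψ
    have : q.symm (e φ) = Submodule.Quotient.mk φ := by
      rw [LinearEquiv.symm_apply_eq]; rfl
    change (LinearMap.ker e).liftQ T hker (q.symm (e φ)) k = _
    rw [this]
    change sig s N φ (θ k) = φ k
    rw [show θ k = (1 : S) ⊗ₜ (k : N) from k.2, sig_one s hs]
  · have : q.symm (e φ) = Submodule.Quotient.mk φ := by
      rw [LinearEquiv.symm_apply_eq]; rfl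
    change (LinearMap.ker e).liftQ T hker (q.symm (e φ)) = _
    rw [this]
    rfl

theorem lTensor_subtype_injective (hs : ∀ φ r, s φ (algebraMap R S r) = φ r) (hθ : IsCoaction θ) :
    Function.Injective ((fixed θ).subtype.lTensor S) := by
  obtain ⟨t, ht, -⟩ := exists_char_section s θ hs hθ
  rw [injective_iff_map_eq_zero]
  intro z hz
  refine CharacterModule.eq_zero_of_character_apply fun χ => ?_
  have key : ∀ z, CharacterModule.uncurry (t.comp (CharacterModule.curry χ))
      ((fixed θ).subtype.lTensor S z) = χ z := fun z => by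
    induction z using TensorProduct.induction_on with
    | zero => simp
    | tmul a k => exact ht _ k
    | add a b ha hb => simp only [map_add, ha, hb]
  rw [← key, hz, map_zero]

theorem exists_lTensor_eq (hs : ∀ φ r, s φ (algebraMap R S r) = φ r) (hθ : IsCoaction θ)
    (z : S ⊗[R] N) (hz : θ.lTensor S z = (TensorProduct.mk R S N 1).lTensor S z) :
    ∃ w, (fixed θ).subtype.lTensor S w = z := by
  obtain ⟨t, -, ht⟩ := exists_char_section s θ hs hθ
  let W := LinearMap.range ((fixed θ).subtype.lTensor S)
  suffices z ∈ W from this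
  rw [← Submodule.Quotient.mk_eq_zero W]
  refine CharacterModule.eq_zero_of_character_apply fun χ' => ?_
  let χ : CharacterModule (S ⊗[R] N) := CharacterModule.dual W.mkQ χ'
  have hχ : ∀ a : S, CharacterModule.dual θ (sig s N (CharacterModule.curry χ a)) = 0 := by
    intro a
    rw [← ht]
    have : CharacterModule.dual (fixed θ).subtype (CharacterModule.curry χ a) = 0 := by
      ext k
      change χ' (W.mkQ (a ⊗ₜ (k : N))) = 0
      have hmem : a ⊗ₜ (k : N) ∈ W := ⟨a ⊗ₜ k, rfl⟩
      rw [Submodule.mkQ_apply, (Submodule.Quotient.mk_eq_zero W).2 hmem, map_zero]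
    rw [this, map_zero]
  let Χ : CharacterModule (S ⊗[R] (S ⊗[R] N)) :=
    CharacterModule.uncurry ((sig s N).comp (CharacterModule.curry χ))
  have h1 : ∀ z, Χ ((TensorProduct.mk R S N 1).lTensor S z) = χ z := fun z => by
    induction z using TensorProduct.induction_on with
    | zero => simp
    | tmul a n => exact sig_one s hs _ n
    | add a b ha hb => simp only [map_add, ha, hb]
  have h2 : ∀ z, Χ (θ.lTensor S z) = 0 := fun z => by
    induction z using TensorProduct.induction_on with
    | zero => simp
    | tmul a n => exact DFunLike.congr_fun (hχ a) n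
    | add a b ha hb => simp only [map_add, ha, hb, add_zero]
  exact (h1 z).symm.trans ((congrArg Χ hz).symm.trans (h2 z))

/-- The comparison map. -/
noncomputable def compare : S ⊗[R] fixed θ →ₗ[R] N :=
  (TensorProduct.lift ((LinearMap.lsmul S N).restrictScalars₁₂ R R)).comp
    ((fixed θ).subtype.lTensor S)

theorem compare_tmul (a : S) (k : fixed θ) : compare θ (a ⊗ₜ k) = a • (k : N) := rfl

theorem compare_bijective (hS : Pi1.UnivInjective R S) (hθ : IsCoaction θ) :
    Function.Bijective (compare θ) := by
  obtain ⟨s, hs⟩ := exists_section hS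
  have h1 : ∀ w, θ (compare θ w) = (fixed θ).subtype.lTensor S w := fun w => by
    induction w using TensorProduct.induction_on with
    | zero => simp
    | tmul a k =>
      rw [compare_tmul, hθ.smul, show θ (k : N) = (1 : S) ⊗ₜ (k : N) from k.2,
        TensorProduct.smul_tmul', smul_eq_mul, mul_one]
      rfl
    | add a b ha hb => simp only [map_add, ha, hb]
  refine ⟨(injective_iff_map_eq_zero _).2 fun w hw => ?_, fun n => ?_⟩
  · refine lTensor_subtype_injective s θ hs hθ ?_
    rw [← h1, hw, map_zero, map_zero]
  · obtain ⟨w, hw⟩ := exists_lTensor_eq s θ hs hθ (θ n) (hθ.coassoc n)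
    refine ⟨w, ?_⟩
    rw [← hθ.counit (compare θ w), h1, hw, hθ.counit]

section canonical

variable (M : Type u) [AddCommGroup M] [Module R M]

/-- The canonical coaction on `S ⊗ M`. -/
noncomputable def canon : S ⊗[R] M →ₗ[R] S ⊗[R] (S ⊗[R] M) := (TensorProduct.mk R S M 1).lTensor S

theorem isCoaction_canon : IsCoaction (N := S ⊗[R] M) (canon M) where
  smul a n := by
    induction n using TensorProduct.induction_on with
    | zero => simp
    | tmul b m => simp [canon, TensorProduct.smul_tmul']
    | add x y hx hy => simp only [smul_add, map_add, hx, hy]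
  coassoc n := by
    induction n using TensorProduct.induction_on with
    | zero => simp
    | tmul b m => simp [canon]
    | add x y hx hy => simp only [map_add, hx, hy]
  counit n := by
    induction n using TensorProduct.induction_on with
    | zero => simp
    | tmul b m => simp [canon, TensorProduct.smul_tmul']
    | add x y hx hy => simp only [map_add, hx, hy]

theorem mk_injective (hS : Pi1.UnivInjective R S) :
    Function.Injective (TensorProduct.mk R S M 1) := by
  intro x y h
  have := hS M (a₁ := x ⊗ₜ 1) (a₂ := y ⊗ₜ 1) (by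
    simpa using congrArg (TensorProduct.comm R S M) h)
  simpa using congrArg (TensorProduct.rid R M) this

/-- Descent of elements. -/
theorem exists_eq_mk (hS : Pi1.UnivInjective R S) (x : S ⊗[R] M)
    (hx : canon M x = (1 : S) ⊗ₜ x) : ∃ m, x = (1 : S) ⊗ₜ m := by
  let θ₀ : S ⊗[R] M →ₗ[R] S ⊗[R] (S ⊗[R] M) := canon M
  let j : M →ₗ[R] fixed θ₀ := (TensorProduct.mk R S M 1).codRestrict _ fun m => rfl
  have hb := compare_bijective θ₀ hS (isCoaction_canon M)
  have hjs : Function.Surjective (j.lTensor S) := by
    intro w
    refine ⟨compare θ₀ w, hb.1 ?_⟩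
    generalize compare θ₀ w = v
    induction v using TensorProduct.induction_on with
    | zero => simp
    | tmul a m =>
      rw [LinearMap.lTensor_tmul, compare_tmul]
      simp [j, TensorProduct.smul_tmul']
    | add x y hx hy => simp only [map_add, hx, hy]
  let P : Submodule R (S ⊗[R] M) := LinearMap.range (TensorProduct.mk R S M 1)
  let q : fixed θ₀ →ₗ[R] (S ⊗[R] M) ⧸ P := P.mkQ.comp (fixed θ₀).subtype
  have hq : q.comp j = 0 := LinearMap.ext fun m => (Submodule.Quotient.mk_eq_zero P).2 ⟨m, rfl⟩
  let y : fixed θ₀ := ⟨x, hx⟩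
  have h0 : q y = 0 := mk_injective (S := S) _ hS (by
    obtain ⟨v, hv⟩ := hjs ((1 : S) ⊗ₜ y)
    show q.lTensor S ((1 : S) ⊗ₜ y) = (TensorProduct.mk R S _ 1) 0
    rw [← hv, ← LinearMap.comp_apply, ← LinearMap.lTensor_comp, hq, LinearMap.lTensor_zero,
      LinearMap.zero_apply, map_zero])
  obtain ⟨m, hm⟩ := (Submodule.Quotient.mk_eq_zero P).1 h0
  exact ⟨m, hm.symm⟩

end canonical

end Groth.Agent.Lib.DescAlg.RingDescent
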