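import Groth.Agent.Lib.DescAlg.RingDescent.Datum

/-!
The coaction of a descent datum is coassociative.
-/

set_option backward.isDefEq.respectTransparency false
set_option backward.isDefEq.respectTransparency.types false
set_option linter.style.haveILetI false

universe u
open CategoryTheory TensorProduct ModuleCat Opposite Pseudofunctor.LocallyDiscreteOpToCat
open scoped ChangeOfRings

namespace Groth.Agent.Lib.DescAlg.RingDescent

variable {R S : CommRingCat.{u}} (φ : R ⟶ S)

/-- `S ⊗_R S ⊗_R S`. -/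
noncomputable def T3 : CommRingCat.{u} :=
  letI := φ.hom.toAlgebra
  CommRingCat.of (S ⊗[R] (S ⊗[R] S))

/-- First inclusion. -/
noncomputable def a3 : S ⟶ T3 φ :=
  letI := φ.hom.toAlgebra
  CommRingCat.ofHom (Algebra.TensorProduct.includeLeftRingHom : S →+* S ⊗[R] (S ⊗[R] S))

/-- Second inclusion. -/
noncomputable def b3 : S ⟶ T3 φ :=
  letI := φ.hom.toAlgebra
  a2 φ ≫ CommRingCat.ofHom
    (Algebra.TensorProduct.includeRight : (S ⊗[R] S) →ₐ[R] S ⊗[R] (S ⊗[R] S)).toRingHom

/-- Third inclusion. -/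
noncomputable def c3 : S ⟶ T3 φ :=
  letI := φ.hom.toAlgebra
  b2 φ ≫ CommRingCat.ofHom
    (Algebra.TensorProduct.includeRight : (S ⊗[R] S) →ₐ[R] S ⊗[R] (S ⊗[R] S)).toRingHom

theorem w_ab : φ ≫ a3 φ = φ ≫ b3 φ := by
  letI := φ.hom.toAlgebra
  ext r
  show (algebraMap R S r) ⊗ₜ[R] (1 : S ⊗[R] S) = (1 : S) ⊗ₜ[R] (algebraMap R S r ⊗ₜ[R] (1 : S))
  rw [Algebra.algebraMap_eq_smul_one, TensorProduct.smul_tmul, Algebra.TensorProduct.one_def,
    TensorProduct.smul_tmul']

theorem w_bc : φ ≫ b3 φ = φ ≫ c3 φ := by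
  rw [b3, c3, reassoc_of% (w2 φ)]

variable (N : ModuleCat.{u} S)

/-- `(s ⊗ t ⊗ u) ↦ s ⊗ t ⊗ u • n`. -/
noncomputable def mu3 (n : N) : letI := φ.hom.toAlgebra; letI := Module.compHom N φ.hom
    T3 φ →+ S ⊗[R] (S ⊗[R] N) :=
  letI := φ.hom.toAlgebra
  letI := Module.compHom N φ.hom
  letI : IsScalarTower R S N := IsScalarTower.of_algebraMap_smul fun _ _ => rfl
  ((((LinearMap.toSpanSingleton S N n).restrictScalars R).lTensor S).lTensor S).toAddMonoidHom

theorem mu3_c3 (u : S) (n : N) (x : T3 φ) :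
    letI := φ.hom.toAlgebra; letI := Module.compHom N φ.hom
    mu3 φ N n ((c3 φ).hom u * x) = mu3 φ N (u • n) x := by
  letI := φ.hom.toAlgebra
  letI := Module.compHom N φ.hom
  letI : IsScalarTower R S N := IsScalarTower.of_algebraMap_smul fun _ _ => rfl
  induction x using TensorProduct.induction_on with
  | zero => rw [mul_zero, map_zero, map_zero]
  | tmul s v =>
    show mu3 φ N n (((1 : S) ⊗ₜ[R] ((1 : S) ⊗ₜ[R] u)) * (s ⊗ₜ[R] v)) = mu3 φ N (u • n) (s ⊗ₜ[R] v)
    rw [Algebra.TensorProduct.tmul_mul_tmul, one_mul]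
    induction v using TensorProduct.induction_on with
    | zero => rw [mul_zero]; simp only [TensorProduct.tmul_zero]; rw [map_zero, map_zero]
    | tmul t w =>
      rw [Algebra.TensorProduct.tmul_mul_tmul, one_mul]
      show s ⊗ₜ[R] (t ⊗ₜ[R] ((u * w) • n)) = s ⊗ₜ[R] (t ⊗ₜ[R] (w • u • n))
      rw [mul_comm u, mul_smul]
    | add v w hv hw =>
      rw [mul_add, TensorProduct.tmul_add, TensorProduct.tmul_add, map_add, map_add, hv, hw]
  | add x y hx hy => rw [mul_add, map_add, map_add, hx, hy]

/-- The triple tensor in the third chart. -/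
noncomputable def psi : letI := φ.hom.toAlgebra; letI := Module.compHom N φ.hom
    E (c3 φ) N →+ S ⊗[R] (S ⊗[R] N) :=
  letI := φ.hom.toAlgebra
  letI := Module.compHom N φ.hom
  letI : IsScalarTower R S N := IsScalarTower.of_algebraMap_smul fun _ _ => rfl
  letI := Module.compHom (T3 φ) (c3 φ).hom
  TensorProduct.liftAddHom
    { toFun := fun x =>
        { toFun := fun n => mu3 φ N n x
          map_zero' := by
            induction x using TensorProduct.induction_on with
            | zero => rw [map_zero]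
            | tmul s v =>
              show s ⊗ₜ[R] (((LinearMap.toSpanSingleton S N (0 : N)).restrictScalars R).lTensor S v) = 0
              rw [LinearMap.toSpanSingleton_zero, LinearMap.restrictScalars_zero,
                LinearMap.lTensor_zero, LinearMap.zero_apply, TensorProduct.tmul_zero]
            | add x y hx hy => rw [map_add, hx, hy, add_zero]
          map_add' := fun n n' => by
            induction x using TensorProduct.induction_on with
            | zero => simp
            | tmul s v =>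
              show s ⊗ₜ[R] (((LinearMap.toSpanSingleton S N (n + n')).restrictScalars R).lTensor S v) = _
              rw [LinearMap.toSpanSingleton_add, LinearMap.restrictScalars_add,
                LinearMap.lTensor_add, LinearMap.add_apply, TensorProduct.tmul_add]
              rfl
            | add x y hx hy => rw [map_add, map_add, map_add, hx, hy]; abel }
      map_zero' := by ext n; exact map_zero (mu3 φ N n)
      map_add' := fun x y => by ext n; exact map_add (mu3 φ N n) x y }
    (fun u x n => mu3_c3 φ N u n x)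

theorem psi_tm (s t : S) (n : N) :
    letI := φ.hom.toAlgebra; letI := Module.compHom N φ.hom
    psi φ N (tm (c3 φ) ((a3 φ).hom s * (b3 φ).hom t) n) = s ⊗ₜ[R] (t ⊗ₜ[R] n) := by
  letI := φ.hom.toAlgebra
  letI := Module.compHom N φ.hom
  show mu3 φ N n ((s ⊗ₜ[R] (1 : S ⊗[R] S)) * ((1 : S) ⊗ₜ[R] (t ⊗ₜ[R] (1 : S)))) = _
  rw [Algebra.TensorProduct.tmul_mul_tmul, one_mul, mul_one]
  show s ⊗ₜ[R] (t ⊗ₜ[R] ((1 : S) • n)) = _
  rw [one_smul]

variable (D : F.{u}.DescentData (fun _ : PUnit.{u + 1} => φ.op))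

/-- The coaction as a linear map. -/
noncomputable def thetaLin :
    letI := φ.hom.toAlgebra; letI := Module.compHom (dobj φ D) φ.hom
    (dobj φ D) →ₗ[R] S ⊗[R] (dobj φ D) :=
  letI := φ.hom.toAlgebra
  letI := Module.compHom (dobj φ D) φ.hom
  { toFun := fun n => theta φ D n
    map_add' := fun n n' => map_add (theta φ D) n n'
    map_smul' := fun r n => by
      refine (theta_smul φ D (φ.hom r) n).trans ?_
      exact algebraMap_smul (M := S ⊗[R] (dobj φ D)) S r _ }

theorem thetaLin_coassoc (n : dobj φ D) :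
    letI := φ.hom.toAlgebra; letI := Module.compHom (dobj φ D) φ.hom
    (thetaLin φ D).lTensor S (thetaLin φ D n) =
      (TensorProduct.mk R S (dobj φ D) 1).lTensor S (thetaLin φ D n) := by
  letI := φ.hom.toAlgebra
  letI := Module.compHom (dobj φ D) φ.hom
  have e1 : ∀ z, psi φ _ (hh φ D (b3 φ) (c3 φ) (w_bc φ) (lam φ (a3 φ) (b3 φ) (w_ab φ) _ z)) =
      (thetaLin φ D).lTensor S (show S ⊗[R] (dobj φ D) from z) := by
    intro z
    induction z using tm_induction φ with
    | h0 => rw [map_zero, map_zero, map_zero]; exact (map_zero ((thetaLin φ D).lTensor S)).symm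
    | h1 s m =>
      rw [lam_tm φ (a3 φ) (b3 φ) (w_ab φ) (dobj φ D) s m, tm_eq_smul, map_smul, hh_one]
      show _ = s ⊗ₜ[R] (show S ⊗[R] (dobj φ D) from theta φ D m)
      generalize theta φ D m = w
      induction w using tm_induction φ with
      | h0 => rw [map_zero, smul_zero, map_zero]; exact (TensorProduct.tmul_zero _ s).symm
      | h1 t k =>
        rw [lam_tm φ (b3 φ) (c3 φ) (w_bc φ) (dobj φ D) t k, smul_tm]
        exact psi_tm φ (dobj φ D) s t k
      | h2 x y hx hy =>
        rw [map_add, smul_add, map_add, hx, hy]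
        exact (TensorProduct.tmul_add s _ _).symm
    | h2 x y hx hy =>
      rw [map_add, map_add, map_add, hx, hy]
      exact (map_add ((thetaLin φ D).lTensor S) _ _).symm
  have e2 : ∀ z, psi φ _ (lam φ (a3 φ) (c3 φ) ((w_ab φ).trans (w_bc φ)) _ z) =
      (TensorProduct.mk R S (dobj φ D) 1).lTensor S (show S ⊗[R] (dobj φ D) from z) := by
    intro z
    induction z using tm_induction φ with
    | h0 => rw [map_zero, map_zero]; exact (map_zero _).symm
    | h1 s m =>
      rw [lam_tm φ (a3 φ) (c3 φ) ((w_ab φ).trans (w_bc φ)) (dobj φ D) s m,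
        show (a3 φ).hom s = (a3 φ).hom s * (b3 φ).hom 1 by rw [map_one, mul_one]]
      exact psi_tm φ (dobj φ D) s 1 m
    | h2 x y hx hy =>
      rw [map_add, map_add, hx, hy]
      exact (map_add ((TensorProduct.mk R S (dobj φ D) 1).lTensor S) _ _).symm
  have key : hh φ D (a3 φ) (b3 φ) (w_ab φ) ≫ hh φ D (b3 φ) (c3 φ) (w_bc φ) =
      hh φ D (a3 φ) (c3 φ) ((w_ab φ).trans (w_bc φ)) := by
    have := D.hom_comp (φ ≫ a3 φ).op (i₁ := PUnit.unit) (i₂ := PUnit.unit) (i₃ := PUnit.unit)
      (a3 φ).op (b3 φ).op (c3 φ).op rfl (by rw [← op_comp, ← w_ab φ])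
      (by rw [← op_comp, ← w_bc φ, ← w_ab φ])
    refine Eq.trans ?_ this
    congr 1
    show D.hom (φ ≫ b3 φ).op (b3 φ).op (c3 φ).op _ _ = D.hom (φ ≫ a3 φ).op (b3 φ).op (c3 φ).op _ _
    congr 2
    exact (w_ab φ).symm
  have := congr(psi φ (dobj φ D) ($key (tm (a3 φ) 1 n)))
  rw [ModuleCat.comp_apply, hh_one, hh_one, e1, e2] at this
  exact this

end Groth.Agent.Lib.DescAlg.RingDescent
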