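import Groth.Agent.Lib.DescAlg.RingDescent.Elements
import Mathlib.RingTheory.TensorProduct.Basic
import Mathlib.Tactic.IrreducibleDef

/-!
A descent datum for `Desc.ringModPF` relative to one ring map as a coaction.
-/

set_option backward.isDefEq.respectTransparency false
set_option backward.isDefEq.respectTransparency.types false
set_option linter.style.haveILetI false

universe u
open CategoryTheory TensorProduct ModuleCat Opposite Pseudofunctor.LocallyDiscreteOpToCat
open scoped ChangeOfRings

namespace Groth.Agent.Lib.DescAlg.RingDescent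

variable {R S T : CommRingCat.{u}} (φ : R ⟶ S)

/-- An `S`-module as an `R`-module. -/
noncomputable abbrev RN (N : ModuleCat.{u} S) : ModuleCat.{u} R := (restrictScalars φ.hom).obj N

section lam

variable (a b : S ⟶ T) (h : φ ≫ a = φ ≫ b) (N : ModuleCat.{u} S)

/-- `s ⊗ n ↦ a s ⊗ n`. -/
noncomputable def lamHom : E φ (RN φ N) ⟶ (restrictScalars a.hom).obj (E b N) :=
  liftE φ <| ModuleCat.ofHom (X := RN φ N)
    (Y := (restrictScalars φ.hom).obj ((restrictScalars a.hom).obj (E b N)))
    { toFun := fun n => tm b 1 n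
      map_add' := fun x y => tm_add b 1 x y
      map_smul' := fun r n => by
        change tm b 1 (φ.hom r • (show (N : Type u) from n)) = a.hom (φ.hom r) • tm b 1 (show (N : Type u) from n)
        rw [tm_smul, smul_tm, ← CommRingCat.comp_apply, ← CommRingCat.comp_apply, h] }

/-- `s ⊗ n ↦ a s ⊗ n`, as an additive map. -/
noncomputable def lam : E φ (RN φ N) →+ E b N where
  toFun z := lamHom φ a b h N z
  map_zero' := map_zero (lamHom φ a b h N).hom
  map_add' x y := map_add (lamHom φ a b h N).hom x y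

theorem lam_tm (s : S) (n : N) : lam φ a b h N (tm φ s n) = tm b (a.hom s) n := by
  show a.hom s • tm b 1 n = _
  rw [smul_tm, mul_one]

theorem lam_smul (s : S) (z : E φ (RN φ N)) :
    lam φ a b h N (s • z) = a.hom s • lam φ a b h N z :=
  map_smul (lamHom φ a b h N).hom s z

end lam

/-- `S ⊗_R S`. -/
noncomputable def T2 : CommRingCat.{u} :=
  letI := φ.hom.toAlgebra
  CommRingCat.of (S ⊗[R] S)

/-- Left inclusion. -/
noncomputable def a2 : S ⟶ T2 φ :=
  letI := φ.hom.toAlgebra
  CommRingCat.ofHom (Algebra.TensorProduct.includeLeftRingHom : S →+* S ⊗[R] S)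

/-- Right inclusion. -/
noncomputable def b2 : S ⟶ T2 φ :=
  letI := φ.hom.toAlgebra
  CommRingCat.ofHom (Algebra.TensorProduct.includeRight : S →ₐ[R] S ⊗[R] S).toRingHom

theorem w2 : φ ≫ a2 φ = φ ≫ b2 φ := by
  letI := φ.hom.toAlgebra
  ext r
  show (algebraMap R S r) ⊗ₜ[R] (1 : S) = (1 : S) ⊗ₜ[R] algebraMap R S r
  rw [Algebra.algebraMap_eq_smul_one, TensorProduct.smul_tmul]

theorem exists_lift (a b : S ⟶ T) (h : φ ≫ a = φ ≫ b) :
    ∃ l : T2 φ ⟶ T, a2 φ ≫ l = a ∧ b2 φ ≫ l = b := by
  letI := φ.hom.toAlgebra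
  letI : Algebra R T := (φ ≫ a).hom.toAlgebra
  let fa : S →ₐ[R] T := { a.hom with commutes' := fun r => rfl }
  let fb : S →ₐ[R] T := { b.hom with commutes' := fun r => (congr($(h).hom r)).symm }
  refine ⟨CommRingCat.ofHom (Algebra.TensorProduct.productMap fa fb).toRingHom, ?_, ?_⟩
  · ext s
    show Algebra.TensorProduct.productMap fa fb (s ⊗ₜ 1) = _
    simp [fa]
  · ext s
    show Algebra.TensorProduct.productMap fa fb (1 ⊗ₜ s) = _
    simp [fb]

section sig

variable (N : ModuleCat.{u} S)

/-- `(s ⊗ t) ↦ s ⊗ t • n`. -/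
noncomputable def mu (n : N) : T2 φ →+ E φ (RN φ N) :=
  letI := φ.hom.toAlgebra
  TensorProduct.liftAddHom
    { toFun := fun s =>
        { toFun := fun t => tm φ s (show RN φ N from t • n)
          map_zero' := by simp only [zero_smul]; exact tm_zero φ s
          map_add' := fun t t' => by simp only [add_smul]; exact tm_add φ s _ _ }
      map_zero' := by
        ext t
        exact TensorProduct.zero_tmul _ _
      map_add' := fun s s' => by
        ext t
        exact TensorProduct.add_tmul _ _ _ }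
    (fun r s t => by
      show tm φ (φ.hom r * s) (show RN φ N from t • n) = tm φ s (show RN φ N from (φ.hom r * t) • n)
      rw [mul_smul]
      exact (tm_smul φ (M := RN φ N) r s (show RN φ N from t • n)).symm)

theorem mu_b2 (s' : S) (n : N) (x : T2 φ) :
    mu φ N n ((b2 φ).hom s' * x) = mu φ N (s' • n) x := by
  letI := φ.hom.toAlgebra
  induction x using TensorProduct.induction_on with
  | zero => rw [mul_zero, map_zero, map_zero]
  | tmul s t =>
    show mu φ N n (((1 : S) ⊗ₜ[R] s') * (s ⊗ₜ[R] t)) = mu φ N (s' • n) (s ⊗ₜ[R] t)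
    rw [Algebra.TensorProduct.tmul_mul_tmul, one_mul]
    show tm φ s (show RN φ N from (s' * t) • n) = tm φ s (show RN φ N from t • s' • n)
    rw [mul_comm s', mul_smul]
  | add x y hx hy => rw [mul_add, map_add, map_add, hx, hy]

/-- Inverse to `lam` over `S ⊗_R S`. -/
noncomputable def sg : E (b2 φ) N →+ E φ (RN φ N) :=
  letI := Module.compHom (T2 φ) (b2 φ).hom
  TensorProduct.liftAddHom
    { toFun := fun x =>
        { toFun := fun n => mu φ N n x
          map_zero' := by
            letI := φ.hom.toAlgebra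
            induction x using TensorProduct.induction_on with
            | zero => rw [map_zero]
            | tmul s t =>
              show tm φ s (show RN φ N from t • (0 : N)) = 0
              rw [smul_zero]; exact tm_zero φ s
            | add x y hx hy => rw [map_add, hx, hy, add_zero]
          map_add' := fun n n' => by
            letI := φ.hom.toAlgebra
            induction x using TensorProduct.induction_on with
            | zero => simp
            | tmul s t =>
              show tm φ s (show RN φ N from t • (n + n')) = _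
              rw [smul_add]; exact tm_add φ s _ _
            | add x y hx hy => rw [map_add, map_add, map_add, hx, hy]; abel }
      map_zero' := by ext n; exact map_zero (mu φ N n)
      map_add' := fun x y => by ext n; exact map_add (mu φ N n) x y }
    (fun s' x n => mu_b2 φ N s' n x)

theorem sg_lam (z : E φ (RN φ N)) : sg φ N (lam φ (a2 φ) (b2 φ) (w2 φ) N z) = z := by
  induction z using tm_induction φ with
  | h0 => rw [map_zero, map_zero]
  | h1 s m =>
    rw [lam_tm φ (a2 φ) (b2 φ) (w2 φ) N s m]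
    show tm φ s (show RN φ N from (1 : S) • (show (N : Type u) from m)) = tm φ s m
    rw [one_smul]
  | h2 x y hx hy => rw [map_add, map_add, hx, hy]

theorem lam_sg (z : E (b2 φ) N) : lam φ (a2 φ) (b2 φ) (w2 φ) N (sg φ N z) = z := by
  letI := φ.hom.toAlgebra
  induction z using tm_induction (b2 φ) with
  | h0 => rw [map_zero, map_zero]
  | h1 x n =>
    show lam φ (a2 φ) (b2 φ) (w2 φ) N (mu φ N n x) = _
    induction x using TensorProduct.induction_on with
    | zero =>
      rw [map_zero, map_zero]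
      letI := Module.compHom (T2 φ) (b2 φ).hom
      exact (TensorProduct.zero_tmul _ n).symm
    | tmul s t =>
      show lam φ (a2 φ) (b2 φ) (w2 φ) N (tm φ s (show RN φ N from t • n)) = _
      rw [lam_tm φ (a2 φ) (b2 φ) (w2 φ) N s (t • n), tm_smul]
      congr 1
      show ((1 : S) ⊗ₜ[R] t) * (s ⊗ₜ[R] (1 : S)) = s ⊗ₜ[R] t
      simp
    | add x y hx hy =>
      rw [map_add, map_add, hx, hy]
      letI := Module.compHom (T2 φ) (b2 φ).hom
      exact (TensorProduct.add_tmul _ _ n).symm
  | h2 x y hx hy => rw [map_add, map_add, hx, hy]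

end sig

variable (D : F.{u}.DescentData (fun _ : PUnit.{u + 1} => φ.op))

/-- The module underlying a descent datum. -/
noncomputable abbrev dobj : ModuleCat.{u} S := D.obj PUnit.unit

/-- The gluing morphism at a pair of points. -/
noncomputable def hh (a b : S ⟶ T) (h : φ ≫ a = φ ≫ b) :
    E a (dobj φ D) ⟶ E b (dobj φ D) :=
  D.hom (i₁ := PUnit.unit) (i₂ := PUnit.unit) (φ ≫ a).op a.op b.op rfl
    (by rw [← op_comp, ← h])

theorem hh_comp_g {T' : CommRingCat.{u}} (a b : S ⟶ T) (h : φ ≫ a = φ ≫ b) (g : T ⟶ T')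
    (a' b' : S ⟶ T') (ha : a ≫ g = a') (hb : b ≫ g = b') :
    hh φ D a' b' (by rw [← ha, ← hb, reassoc_of% h]) =
      (mcIso a g a' ha (dobj φ D)).hom ≫ (extendScalars g.hom).map (hh φ D a b h) ≫
        (mcIso b g b' hb (dobj φ D)).inv := by
  refine Eq.symm (D.pullHom_hom g.op (φ ≫ a).op (φ ≫ a').op ?_ (i₁ := PUnit.unit) (i₂ := PUnit.unit)
    a.op b.op rfl (by rw [← op_comp, ← h]) a'.op b'.op ?_ ?_)
  · rw [← op_comp, Category.assoc, ha]
  · rw [← op_comp, ha]
  · rw [← op_comp, hb]

/-- The coaction of a descent datum. -/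
noncomputable irreducible_def theta : (dobj φ D) →+ E φ (RN φ (dobj φ D)) :=
  AddMonoidHom.mk' (fun n => sg φ _ (hh φ D (a2 φ) (b2 φ) (w2 φ) (tm (a2 φ) 1 n)))
    fun n n' => by rw [tm_add, map_add, map_add]

theorem theta_apply (n : dobj φ D) :
    theta φ D n = sg φ _ (hh φ D (a2 φ) (b2 φ) (w2 φ) (tm (a2 φ) 1 n)) := by
  rw [theta_def]
  rfl

theorem hh_one (a b : S ⟶ T) (h : φ ≫ a = φ ≫ b) (n : dobj φ D) :
    hh φ D a b h (tm a 1 n) = lam φ a b h _ (theta φ D n) := by
  obtain ⟨l, ha, hb⟩ := exists_lift φ a b h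
  have key : ∀ z, (mcIso (b2 φ) l b hb (dobj φ D)).inv
      (tm l 1 (lam φ (a2 φ) (b2 φ) (w2 φ) (dobj φ D) z)) = lam φ a b h (dobj φ D) z := by
    intro z
    induction z using tm_induction φ with
    | h0 => rw [map_zero, map_zero, tm_zero, map_zero]
    | h1 s m =>
      rw [lam_tm φ (a2 φ) (b2 φ) (w2 φ) (dobj φ D) s m, mcIso_inv_one, lam_tm φ a b h (dobj φ D) s m]
      subst ha
      rfl
    | h2 x y hx hy => rw [map_add, map_add, tm_add, map_add, hx, hy]
  rw [hh_comp_g φ D (a2 φ) (b2 φ) (w2 φ) l a b ha hb, ModuleCat.comp_apply, ModuleCat.comp_apply,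
    mcIso_hom_one]
  show (mcIso (b2 φ) l b hb (dobj φ D)).inv
    ((extendScalars l.hom).map (hh φ D (a2 φ) (b2 φ) (w2 φ)) (tm l 1 (tm (a2 φ) 1 n))) = _
  rw [show (extendScalars l.hom).map (hh φ D (a2 φ) (b2 φ) (w2 φ)) (tm l 1 (tm (a2 φ) 1 n)) =
    tm l 1 (hh φ D (a2 φ) (b2 φ) (w2 φ) (tm (a2 φ) 1 n)) from rfl, ← key]
  rw [theta_apply, lam_sg]

theorem theta_smul (s : S) (n : dobj φ D) : theta φ D (s • n) = s • theta φ D n := by
  rw [theta_apply φ D (s • n)]
  rw [tm_smul, tm_eq_smul, map_smul, mul_one, hh_one, ← lam_smul, sg_lam]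

/-- `s ⊗ n ↦ s • n`. -/
noncomputable def act (N : ModuleCat.{u} S) : E φ (RN φ N) ⟶ N :=
  liftE φ (𝟙 (RN φ N))

theorem act_tm (N : ModuleCat.{u} S) (s : S) (n : N) : act φ N (tm φ s n) = s • n := rfl

theorem act_theta (n : dobj φ D) : act φ _ (theta φ D n) = n := by
  let c : E (𝟙 S) (dobj φ D) ⟶ dobj φ D :=
    liftE (𝟙 S) (ModuleCat.ofHom (X := dobj φ D) (Y := (restrictScalars (𝟙 S : S ⟶ S).hom).obj (dobj φ D))
      { toFun := fun m => m, map_add' := fun _ _ => rfl, map_smul' := fun _ _ => rfl })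
  have key : ∀ z, c (lam φ (𝟙 S) (𝟙 S) rfl (dobj φ D) z) = act φ _ z := by
    intro z
    induction z using tm_induction φ with
    | h0 => rw [map_zero, map_zero, map_zero]
    | h1 s m => rw [lam_tm φ (𝟙 S) (𝟙 S) rfl (dobj φ D) s m]; rfl
    | h2 x y hx hy => rw [map_add, map_add, map_add, hx, hy]
  rw [← key, ← hh_one]
  have : hh φ D (𝟙 S) (𝟙 S) rfl = 𝟙 _ := D.hom_self _ _ rfl
  rw [this]
  exact one_smul S n

end Groth.Agent.Lib.DescAlg.RingDescent
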