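import Groth.Prelude.Def_Desc
import Groth.Agent.Lib.DescAlg.RingDescent.Pure

/-! Elements of extensions of scalars and of the coherence isomorphisms of `Desc.ringModPF`. -/

set_option backward.isDefEq.respectTransparency false
set_option backward.isDefEq.respectTransparency.types false
set_option linter.style.haveILetI false

universe u
open CategoryTheory TensorProduct ModuleCat Opposite Pseudofunctor.LocallyDiscreteOpToCat
open scoped ChangeOfRings

namespace Groth.Agent.Lib.DescAlg.RingDescent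

/-- The pseudofunctor of modules. -/
noncomputable abbrev F : Pseudofunctor (LocallyDiscrete (CommRingCat.{u}ᵒᵖ)ᵒᵖ) Cat.{u, u + 1} :=
  Desc.ringModPF.{u}

variable {R S T T' : CommRingCat.{u}}

/-- Extension of scalars. -/
noncomputable abbrev E (a : R ⟶ S) (M : ModuleCat.{u} R) : ModuleCat.{u} S :=
  (extendScalars a.hom).obj M

/-- Pure tensors. -/
noncomputable def tm (a : R ⟶ S) {M : ModuleCat.{u} R} (y : S) (m : M) : E a M :=
  y ⊗ₜ[R,a.hom] m

theorem smul_tm (a : R ⟶ S) {M : ModuleCat.{u} R} (x y : S) (m : M) :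
    x • tm a y m = tm a (x * y) m := rfl

theorem tm_smul (a : R ⟶ S) {M : ModuleCat.{u} R} (r : R) (y : S) (m : M) :
    tm a y (r • m) = tm a (a.hom r * y) m := by
  letI := Module.compHom S a.hom
  exact (TensorProduct.tmul_smul r y m).trans (TensorProduct.smul_tmul' r y m)

theorem tm_eq_smul (a : R ⟶ S) {M : ModuleCat.{u} R} (y : S) (m : M) :
    tm a y m = y • tm a 1 m := by rw [smul_tm, mul_one]

theorem tm_add (a : R ⟶ S) {M : ModuleCat.{u} R} (y : S) (m m' : M) :
    tm a y (m + m') = tm a y m + tm a y m' := by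
  letI := Module.compHom S a.hom
  exact TensorProduct.tmul_add y m m'

theorem tm_zero (a : R ⟶ S) {M : ModuleCat.{u} R} (y : S) : tm a y (0 : M) = 0 := by
  letI := Module.compHom S a.hom
  exact TensorProduct.tmul_zero _ y

theorem tm_induction (a : R ⟶ S) {M : ModuleCat.{u} R} {P : E a M → Prop} (h0 : P 0)
    (h1 : ∀ y m, P (tm a y m)) (h2 : ∀ x y, P x → P y → P (x + y)) (z : E a M) : P z :=
  TensorProduct.induction_on z h0 h1 h2

theorem hom_ext' (a : R ⟶ S) {M : ModuleCat.{u} R} {X : ModuleCat.{u} S} {φ ψ : E a M ⟶ X}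
    (h : ∀ m, φ (tm a 1 m) = ψ (tm a 1 m)) : φ = ψ := by
  refine ModuleCat.hom_ext (LinearMap.ext fun z => ?_)
  induction z using tm_induction a with
  | h0 => simp
  | h1 y m => rw [tm_eq_smul, map_smul, map_smul]; exact congrArg (y • ·) (h m)
  | h2 x y hx hy => rw [map_add, map_add, hx, hy]

/-- The composition isomorphism. -/
noncomputable def mcIso (a : R ⟶ S) (g : S ⟶ T) (c : R ⟶ T) (h : a ≫ g = c) (M : ModuleCat.{u} R) :
    E c M ≅ E g (E a M) :=
  (Cat.Hom.toNatIso (F.mapComp' a.op.op.toLoc g.op.op.toLoc c.op.op.toLoc (by subst h; rfl))).app M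

theorem mcIso_hom_one (a : R ⟶ S) (g : S ⟶ T) (c : R ⟶ T) (h : a ≫ g = c) (M : ModuleCat.{u} R)
    (m : M) : (mcIso a g c h M).hom (tm c 1 m) = tm g 1 (tm a 1 m) := by
  subst h
  have key : (mcIso a g (a ≫ g) rfl M).hom = (extendScalarsComp a.hom g.hom).hom.app M :=
    congrArg (fun i => i.hom.toNatTrans.app M)
      (Pseudofunctor.mapComp'_eq_mapComp F a.op.op.toLoc g.op.op.toLoc)
  rw [key]
  exact ModuleCat.extendScalarsComp_hom_app_one_tmul a.hom g.hom M m

theorem mcIso_inv_one (a : R ⟶ S) (g : S ⟶ T) (c : R ⟶ T) (h : a ≫ g = c) (M : ModuleCat.{u} R)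
    (y : S) (m : M) : (mcIso a g c h M).inv (tm g 1 (tm a y m)) = tm c (g.hom y) m := by
  have h1 : (mcIso a g c h M).inv (tm g 1 (tm a 1 m)) = tm c 1 m := by
    rw [← mcIso_hom_one a g c h M m, Iso.hom_inv_id_apply]
  rw [tm_eq_smul a y, tm_smul, mul_one, tm_eq_smul g, map_smul, h1, smul_tm, mul_one]

/-- The semilinear map out of an extension of scalars determined on `1 ⊗ m`. -/
noncomputable def liftE (a : R ⟶ S) {M : ModuleCat.{u} R} {X : ModuleCat.{u} S}
    (g : M ⟶ (restrictScalars a.hom).obj X) : E a M ⟶ X :=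
  ExtendRestrictScalarsAdj.HomEquiv.fromExtendScalars a.hom g

theorem liftE_tm (a : R ⟶ S) {M : ModuleCat.{u} R} {X : ModuleCat.{u} S}
    (g : M ⟶ (restrictScalars a.hom).obj X) (y : S) (m : M) :
    liftE a g (tm a y m) = y • (show X from g m) := rfl

end Groth.Agent.Lib.DescAlg.RingDescent
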