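import Groth.Agent.Lib.DescAlg.RingDescent.Coassoc
import Mathlib.CategoryTheory.Functor.FullyFaithful

/-!
Descent of modules along a ring map: an equivalence iff universally injective.
-/

set_option backward.isDefEq.respectTransparency false
set_option backward.isDefEq.respectTransparency.types false
set_option linter.style.haveILetI false

universe u
open CategoryTheory TensorProduct ModuleCat Opposite Pseudofunctor.LocallyDiscreteOpToCat
open scoped ChangeOfRings

namespace Groth.Agent.Lib.DescAlg.RingDescent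

variable {R S T : CommRingCat.{u}} (φ : R ⟶ S)

/-- Descent data functor. -/
noncomputable abbrev desc : ModuleCat.{u} R ⥤ F.{u}.DescentData (fun _ : PUnit.{u + 1} => φ.op) :=
  F.{u}.toDescentData (fun _ : PUnit.{u + 1} => φ.op)

theorem hh_ofObj (M : ModuleCat.{u} R) (a b : S ⟶ T) (h : φ ≫ a = φ ≫ b) (m : M) :
    hh φ ((desc φ).obj M) a b h (tm a 1 (tm φ 1 m)) = tm b 1 (tm φ 1 m) := by
  show ((mcIso φ a (φ ≫ a) rfl M).inv ≫ (mcIso φ b (φ ≫ a) h.symm M).hom) (tm a 1 (tm φ 1 m)) = _
  rw [ModuleCat.comp_apply, mcIso_inv_one, map_one, mcIso_hom_one]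

theorem theta_ofObj_one (M : ModuleCat.{u} R) (m : M) :
    theta φ ((desc φ).obj M) (tm φ 1 m) = tm φ 1 (show RN φ (E φ M) from tm φ 1 m) := by
  refine (theta_apply φ ((desc φ).obj M) (tm φ 1 m)).trans ?_
  rw [hh_ofObj, show tm (b2 φ) 1 (tm φ 1 m) =
    lam φ (a2 φ) (b2 φ) (w2 φ) (E φ M) (tm φ 1 (show RN φ (E φ M) from tm φ 1 m)) from ?_]
  · exact sg_lam φ (E φ M) _
  · rw [lam_tm φ (a2 φ) (b2 φ) (w2 φ) (E φ M) 1 (tm φ 1 m), map_one]

/-- Base change of `s ⊗ n` along a map of `S`-modules. -/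
noncomputable abbrev mapT {N N' : ModuleCat.{u} S} (ψ : N ⟶ N') :
    E φ (RN φ N) ⟶ E φ (RN φ N') :=
  (extendScalars φ.hom).map ((restrictScalars φ.hom).map ψ)

theorem mapT_tm {N N' : ModuleCat.{u} S} (ψ : N ⟶ N') (s : S) (n : N) :
    mapT φ ψ (tm φ s n) = tm φ s (show RN φ N' from ψ n) := rfl

theorem lam_mapT {N N' : ModuleCat.{u} S} (ψ : N ⟶ N') (a b : S ⟶ T) (h : φ ≫ a = φ ≫ b)
    (z : E φ (RN φ N)) :
    (extendScalars b.hom).map ψ (lam φ a b h N z) = lam φ a b h N' (mapT φ ψ z) := by
  induction z using tm_induction φ with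
  | h0 => rw [map_zero, map_zero, map_zero, map_zero]
  | h1 s m =>
    rw [lam_tm φ a b h N s m, mapT_tm]
    exact (lam_tm φ a b h N' s (ψ m)).symm
  | h2 x y hx hy => rw [map_add, map_add, map_add, map_add, hx, hy]

variable {D D' : F.{u}.DescentData (fun _ : PUnit.{u + 1} => φ.op)}

/-- The map of modules underlying a map of descent data. -/
noncomputable abbrev gh (g : D ⟶ D') : dobj φ D ⟶ dobj φ D' := g.hom PUnit.unit

theorem theta_hom (g : D ⟶ D') (n : dobj φ D) :
    theta φ D' (gh φ g n) = mapT φ (gh φ g) (theta φ D n) := by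
  have h0 : (extendScalars (a2 φ).hom).map (gh φ g) ≫ hh φ D' (a2 φ) (b2 φ) (w2 φ) =
      hh φ D (a2 φ) (b2 φ) (w2 φ) ≫ (extendScalars (b2 φ).hom).map (gh φ g) :=
    g.comm (φ ≫ a2 φ).op (i₁ := PUnit.unit) (i₂ := PUnit.unit) (a2 φ).op (b2 φ).op rfl
      (by rw [← op_comp, ← w2 φ])
  have h := congr($h0 (tm (a2 φ) 1 n))
  rw [ModuleCat.comp_apply, ModuleCat.comp_apply, hh_one φ D (a2 φ) (b2 φ) (w2 φ) n, lam_mapT] at h
  rw [theta_apply φ D' (gh φ g n)]
  rw [show tm (a2 φ) 1 (gh φ g n) =
    (extendScalars (a2 φ).hom).map (gh φ g) (tm (a2 φ) 1 n) from rfl, h, sg_lam]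

theorem comm_of_theta (ψ : dobj φ D ⟶ dobj φ D')
    (hψ : ∀ n, theta φ D' (ψ n) = mapT φ ψ (theta φ D n)) (a b : S ⟶ T) (h : φ ≫ a = φ ≫ b) :
    (extendScalars a.hom).map ψ ≫ hh φ D' a b h = hh φ D a b h ≫ (extendScalars b.hom).map ψ := by
  refine hom_ext' a fun n => ?_
  show hh φ D' a b h (tm a 1 (ψ n)) = (extendScalars b.hom).map ψ (hh φ D a b h (tm a 1 n))
  rw [hh_one, hh_one, lam_mapT, hψ]

/-- An isomorphism of descent data from an equivariant isomorphism. -/
noncomputable def isoOfTheta (e : dobj φ D ≅ dobj φ D')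
    (he : ∀ n, theta φ D' (e.hom n) = mapT φ e.hom (theta φ D n)) : D ≅ D' :=
  Pseudofunctor.DescentData.isoMk (fun _ => e) (fun Y q i₁ i₂ f₁ f₂ hf₁ hf₂ => by
    obtain rfl : q = (φ ≫ f₁.unop).op := hf₁.symm
    exact comm_of_theta φ e.hom he f₁.unop f₂.unop (Quiver.Hom.op_inj hf₂.symm))

theorem isCoaction_thetaLin (D : F.{u}.DescentData (fun _ : PUnit.{u + 1} => φ.op)) :
    letI := φ.hom.toAlgebra; letI := Module.compHom (dobj φ D) φ.hom
    haveI : IsScalarTower R S (dobj φ D) := IsScalarTower.of_algebraMap_smul fun _ _ => rfl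
    IsCoaction (thetaLin φ D) := by
  letI := φ.hom.toAlgebra
  letI := Module.compHom (dobj φ D) φ.hom
  haveI : IsScalarTower R S (dobj φ D) := IsScalarTower.of_algebraMap_smul fun _ _ => rfl
  refine ⟨theta_smul φ D, thetaLin_coassoc φ D, fun n => ?_⟩
  refine Eq.trans ?_ (act_theta φ D n)
  show TensorProduct.lift _ (show S ⊗[R] (dobj φ D) from theta φ D n) = _
  generalize theta φ D n = w
  induction w using tm_induction φ with
  | h0 => exact (map_zero _).trans (map_zero (act φ (dobj φ D)).hom).symm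
  | h1 s m => rfl
  | h2 x y hx hy =>
    exact ((map_add (TensorProduct.lift ((LinearMap.lsmul S (dobj φ D)).restrictScalars₁₂ R R))
      (show S ⊗[R] (dobj φ D) from x) (show S ⊗[R] (dobj φ D) from y)).trans
        (congrArg₂ (· + ·) hx hy)).trans (map_add (act φ (dobj φ D)).hom x y).symm

theorem tm_one_injective (h : letI := φ.hom.toAlgebra; Pi1.UnivInjective R S) (M : ModuleCat.{u} R) :
    Function.Injective (fun m : M => tm φ 1 m) :=
  letI := φ.hom.toAlgebra
  mk_injective (R := R) (S := S) M h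

theorem faithful (h : letI := φ.hom.toAlgebra; Pi1.UnivInjective R S) : (desc φ).Faithful where
  map_injective {M M'} g g' he := by
    ext m
    have e : gh φ ((desc φ).map g) = gh φ ((desc φ).map g') := congrArg (gh φ) he
    exact tm_one_injective φ h M' congr($e (tm φ 1 m))

/-- The coaction of a canonical datum. -/
noncomputable def thetaC (M : ModuleCat.{u} R) : E φ M →+ E φ (RN φ (E φ M)) :=
  theta φ ((desc φ).obj M)

theorem thetaC_one (M : ModuleCat.{u} R) (m : M) :
    thetaC φ M (tm φ 1 m) = tm φ 1 (show RN φ (E φ M) from tm φ 1 m) :=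
  theta_ofObj_one φ M m

theorem thetaC_smul (M : ModuleCat.{u} R) (s : S) (y : E φ M) :
    thetaC φ M (s • y) = s • thetaC φ M y :=
  theta_smul φ ((desc φ).obj M) s y

theorem thetaC_tm (M : ModuleCat.{u} R) (s : S) (m : M) :
    thetaC φ M (tm φ s m) = tm φ s (show RN φ (E φ M) from tm φ 1 m) := by
  rw [tm_eq_smul φ s m, thetaC_smul, thetaC_one, smul_tm, mul_one]

theorem thetaC_eq_canon (M : ModuleCat.{u} R) (y : E φ M) :
    letI := φ.hom.toAlgebra
    thetaC φ M y =
      (show E φ (RN φ (E φ M)) from canon (R := R) (S := S) M (show S ⊗[R] M from y)) := by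
  letI := φ.hom.toAlgebra
  induction y using tm_induction φ with
  | h0 => rw [map_zero]; exact (map_zero (canon (R := R) (S := S) M)).symm
  | h1 s k => rw [thetaC_tm]; rfl
  | h2 x y hx hy =>
    rw [map_add, hx, hy]
    exact (map_add (canon (R := R) (S := S) M) _ _).symm

theorem exists_descent_elem (h : letI := φ.hom.toAlgebra; Pi1.UnivInjective R S)
    {M M' : ModuleCat.{u} R} (ψ : (desc φ).obj M ⟶ (desc φ).obj M') (m : M) :
    ∃ m' : M', gh φ ψ (tm φ 1 m) = tm φ 1 m' := by
  letI := φ.hom.toAlgebra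
  have h1 : thetaC φ M' (gh φ ψ (tm φ 1 m)) =
      tm φ 1 (show RN φ (E φ M') from gh φ ψ (tm φ 1 m)) :=
    ((theta_hom φ ψ (tm φ 1 m)).trans (congrArg (mapT φ (gh φ ψ)) (theta_ofObj_one φ M m))).trans
      (mapT_tm φ (gh φ ψ) 1 (tm φ 1 m))
  exact exists_eq_mk (R := R) (S := S) M' h _ ((thetaC_eq_canon φ M' _).symm.trans h1)

theorem full (h : letI := φ.hom.toAlgebra; Pi1.UnivInjective R S) : (desc φ).Full where
  map_surjective {M M'} ψ := by
    have key := exists_descent_elem φ h ψ
    choose f hf using key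
    let g : M ⟶ M' := ModuleCat.ofHom
      { toFun := f
        map_add' := fun a b => tm_one_injective φ h M' (by
          show tm φ 1 (f (a + b)) = tm φ 1 (f a + f b)
          rw [tm_add φ 1 (f a) (f b), ← hf, ← hf, ← hf, tm_add φ 1 a b, map_add])
        map_smul' := fun r a => tm_one_injective φ h M' (by
          show tm φ 1 (f (r • a)) = tm φ 1 (r • f a)
          rw [tm_smul φ r 1 (f a), ← hf, tm_smul φ r 1 a, tm_eq_smul φ _ a, tm_eq_smul φ _ (f a),
            map_smul, hf]) }
    refine ⟨g, ?_⟩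
    refine Pseudofunctor.DescentData.hom_ext fun _ => ?_
    refine hom_ext' φ fun m => ?_
    exact (hf m).symm

theorem essSurj (h : letI := φ.hom.toAlgebra; Pi1.UnivInjective R S) : (desc φ).EssSurj where
  mem_essImage D := by
    letI := φ.hom.toAlgebra
    letI := Module.compHom (dobj φ D) φ.hom
    haveI : IsScalarTower R S (dobj φ D) := IsScalarTower.of_algebraMap_smul fun _ _ => rfl
    let K : ModuleCat.{u} R := ModuleCat.of R (fixed (thetaLin φ D))
    let ι : K ⟶ RN φ (dobj φ D) := ModuleCat.ofHom (Y := RN φ (dobj φ D))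
      { toFun := fun k => k.1, map_add' := fun _ _ => rfl, map_smul' := fun _ _ => rfl }
    let c : E φ K ⟶ dobj φ D := liftE φ ι
    have hc : ∀ z, c z = compare (thetaLin φ D) (show S ⊗[R] fixed (thetaLin φ D) from z) := by
      intro z
      induction z using tm_induction φ with
      | h0 => exact (map_zero c.hom).trans (map_zero (compare (thetaLin φ D))).symm
      | h1 s k => rfl
      | h2 x y hx hy =>
        rw [map_add, hx, hy]
        exact (map_add (compare (thetaLin φ D)) _ _).symm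
    have hb : Function.Bijective c := by
      rw [show (c : E φ K → _) = fun z => compare (thetaLin φ D) (show S ⊗[R] fixed (thetaLin φ D) from z) from funext hc]
      exact compare_bijective (thetaLin φ D) h (isCoaction_thetaLin φ D)
    haveI : IsIso c := (ConcreteCategory.isIso_iff_bijective c).2 hb
    refine ⟨K, ⟨isoOfTheta φ (D := (desc φ).obj K) (D' := D) (asIso c) fun n => ?_⟩⟩
    show theta φ D (c n) = mapT φ c (theta φ ((desc φ).obj K) n)
    induction n using tm_induction φ with
    | h0 => rw [map_zero, map_zero, map_zero]; exact (map_zero _).symm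
    | h1 s k =>
      have hk : theta φ D (c (tm φ 1 k)) = tm φ 1 (show RN φ (dobj φ D) from c (tm φ 1 k)) := by
        have h1 : c (tm φ 1 k) = k.1 := one_smul S _
        rw [h1]
        exact k.2
      rw [tm_eq_smul φ s k, map_smul, theta_smul, hk, theta_smul φ ((desc φ).obj K), theta_ofObj_one,
        map_smul, mapT_tm]
    | h2 x y hx hy => rw [map_add, map_add, hx, hy, map_add, map_add]

theorem univInjective_of_faithful (hf : (desc φ).Faithful) :
    letI := φ.hom.toAlgebra; Pi1.UnivInjective R S := by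
  letI := φ.hom.toAlgebra
  intro P _ _
  rw [injective_iff_map_eq_zero]
  intro z hz
  obtain ⟨p, rfl⟩ := (TensorProduct.rid R P).symm.surjective z
  have hp : (1 : S) ⊗ₜ[R] p = 0 := by
    have : p ⊗ₜ[R] (1 : S) = 0 := by simpa using hz
    simpa using congrArg (TensorProduct.comm R P S) this
  let K : ModuleCat.{u} R := ModuleCat.of R (LinearMap.ker (TensorProduct.mk R S P 1))
  let ι : K ⟶ ModuleCat.of R P := ModuleCat.ofHom (LinearMap.ker (TensorProduct.mk R S P 1)).subtype
  have he : ι = 0 := hf.map_injective (Pseudofunctor.DescentData.hom_ext fun _ => by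
    refine hom_ext' φ fun k => ?_
    show tm φ (M := ModuleCat.of R P) 1 k.1 = tm φ (M := ModuleCat.of R P) 1 0
    rw [tm_zero]
    exact k.2)
  have : p = 0 := congr($he ⟨p, hp⟩)
  rw [this, map_zero]

theorem isEquivalence (h : letI := φ.hom.toAlgebra; Pi1.UnivInjective R S) : (desc φ).IsEquivalence :=
  haveI := faithful φ h
  haveI := full φ h
  haveI := essSurj φ h
  { }

end Groth.Agent.Lib.DescAlg.RingDescent
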